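import Mathlib
import Groth.Prelude.Def_W4c3cyccovratcurvTree

/-!
Any two marked trees with the same number of vertices are linked by conic deformations.
-/

namespace GrothLib.ConicTree

open W4c3cyccovratcurv SimpleGraph Relation

variable {k n : ℕ}

theorem conicAdj_symm {T₁ T₂ : MarkedTree k} (h : ConicAdj T₁ T₂) : ConicAdj T₂ T₁ := by
  obtain ⟨u₁, w₁, u₂, w₂, h₁, h₂, φ, hu, hm⟩ := h
  refine ⟨u₂, w₂, u₁, w₁, h₂, h₁, φ.symm, ?_, fun i => ?_⟩
  · rw [← hu, RelIso.symm_apply_apply]
  · rw [← hm i, RelIso.symm_apply_apply]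

/-- move the edge `u x` to `r x` -/
def slide (G : SimpleGraph (Fin n)) (r u x : Fin n) : SimpleGraph (Fin n) :=
  G.deleteEdges {s(u, x)} ⊔ edge r x

theorem slide_adj (G : SimpleGraph (Fin n)) (r u x : Fin n) (a b : Fin n) :
    (slide G r u x).Adj a b ↔ (G.Adj a b ∧ ¬ ((a = u ∧ b = x) ∨ (a = x ∧ b = u))) ∨
      (((a = r ∧ b = x) ∨ (a = x ∧ b = r)) ∧ a ≠ b) := by
  simp [slide, edge_adj]

theorem isTree_slide (G : SimpleGraph (Fin n)) (hG : G.IsTree) {r u x : Fin n} (hru : G.Adj r u)
    (hux : G.Adj u x) (hxr : x ≠ r) : (slide G r u x).IsTree := by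
  classical
  set G' := slide G r u x
  have hru' : G'.Adj r u := by
    rw [slide_adj]
    refine Or.inl ⟨hru, ?_⟩
    rintro (⟨h, -⟩ | ⟨h, -⟩)
    · exact hru.ne h
    · exact hxr h.symm
  have hrx' : G'.Adj r x := by
    rw [slide_adj]; exact Or.inr ⟨Or.inl ⟨rfl, rfl⟩, hxr.symm⟩
  have hconn : G'.Connected := by
    have := hG.1.nonempty
    refine ⟨fun a b => ?_⟩
    refine Reachable.elim (hG.1 a b) fun p => ?_
    induction p with
    | nil => exact Reachable.refl _
    | @cons a c b h p ih =>
      refine Reachable.trans ?_ ih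
      by_cases hac : (a = u ∧ c = x) ∨ (a = x ∧ c = u)
      · rcases hac with ⟨rfl, rfl⟩ | ⟨rfl, rfl⟩
        · exact hru'.reachable.symm.trans hrx'.reachable
        · exact hrx'.reachable.symm.trans hru'.reachable
      · exact ((slide_adj G r u x a c).mpr (Or.inl ⟨h, hac⟩)).reachable
  rw [isTree_iff_connected_and_card]
  refine ⟨hconn, le_antisymm ?_ hconn.card_vert_le_card_edgeSet_add_one⟩
  rw [← (isTree_iff_connected_and_card.mp hG).2]
  have hsub : G'.edgeSet ⊆ insert s(r, x) (G.edgeSet \ {s(u, x)}) := by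
    intro e he
    induction e using Sym2.ind with
    | _ a b =>
      rw [mem_edgeSet, slide_adj] at he
      rcases he with ⟨h, hn⟩ | ⟨h, -⟩
      · refine Or.inr ⟨h, ?_⟩
        simpa [Sym2.eq_iff] using hn
      · refine Or.inl ?_
        simpa [Sym2.eq_iff] using h
  have hmem : s(u, x) ∈ G.edgeSet := hux
  have h1 := Set.ncard_le_ncard hsub (Set.toFinite _)
  have h2 := Set.ncard_insert_le s(r, x) (G.edgeSet \ {s(u, x)})
  have h3 := Set.ncard_sdiff_singleton_add_one hmem (Set.toFinite _)
  rw [Nat.card_coe_set_eq, Nat.card_coe_set_eq]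
  omega

theorem contract_slide (G : SimpleGraph (Fin n)) {r u x : Fin n} (hru : G.Adj r u)
    (hux : G.Adj u x) (hxr : x ≠ r) :
    contract (slide G r u x) r u = contract G r u := by
  ext ⟨a, ha⟩ ⟨b, hb⟩
  simp only [contract, fromRel_adj, ne_eq, Subtype.mk.injEq, slide_adj]
  have hxu : x ≠ u := hux.ne.symm
  have hux' := hux
  have hne : r ≠ u := hru.ne
  by_cases hab : a = b
  · simp [hab]
  simp only [hab, not_false_eq_true, true_and, ha, hb, false_and, or_self, and_true, and_false,
    Ne.symm ha, Ne.symm hb, hne.symm, hxu.symm, or_false, false_or, Ne.symm hab]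
  by_cases h1 : a = x <;> by_cases h2 : b = x <;> by_cases h3 : a = r <;> by_cases h4 : b = r <;>
    simp_all [G.adj_comm]

/-- the star centred at `r` -/
def star (r : Fin n) : SimpleGraph (Fin n) := fromRel fun a _ => a = r

theorem reach_star (r : Fin n) (T : SimpleGraph (Fin n)) (hT : T.IsTree) (m : Fin k → Fin n) :
    ∃ h : (star r).IsTree, ReflTransGen ConicAdj (⟨n, T, hT, m⟩ : MarkedTree k) ⟨n, star r, h, m⟩ := by
  classical
  induction hd : (Finset.univ.filter fun v => v ≠ r ∧ ¬ T.Adj r v).card using Nat.strong_induction_on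
    generalizing T with
  | _ d ih =>
    by_cases hx : ∃ u x, T.Adj r u ∧ T.Adj u x ∧ x ≠ r
    · obtain ⟨u, x, hru, hux, hxr⟩ := hx
      have hT' := isTree_slide T hT hru hux hxr
      have hnadj : ¬ T.Adj r x := by
        intro hrx
        refine hT.2 (Walk.cons hru (Walk.cons hux (Walk.cons hrx.symm Walk.nil))) ?_
        simp [Walk.isCycle_def, Walk.isTrail_def, hru.ne, hru.ne.symm, hux.ne, hxr, hxr.symm, hux.ne.symm]
      have hlt : (Finset.univ.filter fun v => v ≠ r ∧ ¬ (slide T r u x).Adj r v).card < d := by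
        rw [← hd]
        refine Finset.card_lt_card (Finset.ssubset_iff_of_subset ?_ |>.mpr ?_)
        · intro v
          simp only [Finset.mem_filter, Finset.mem_univ, true_and, slide_adj]
          rintro ⟨hvr, hv⟩
          refine ⟨hvr, fun h => hv (Or.inl ⟨h, ?_⟩)⟩
          rintro (⟨h1, -⟩ | ⟨h1, -⟩)
          · exact hru.ne h1
          · exact hxr h1.symm
        · refine ⟨x, ?_, ?_⟩
          · simp [hxr, hnadj]
          · simp [slide_adj, hxr, Ne.symm hxr]
      obtain ⟨h, hh⟩ := ih _ hlt _ hT' rfl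
      refine ⟨h, ReflTransGen.head ?_ hh⟩
      have hru' : (slide T r u x).Adj r u := by
        rw [slide_adj]
        refine Or.inl ⟨hru, ?_⟩
        rintro (⟨h, -⟩ | ⟨h, -⟩)
        · exact hru.ne h
        · exact hxr h.symm
      refine ⟨r, u, r, u, hru, hru', ⟨Equiv.refl _, ?_⟩, rfl, fun i => rfl⟩
      intro a b
      rw [contract_slide T hru hux hxr]
      rfl
    · push Not at hx
      have hr : ∀ v, v ≠ r → T.Adj r v := by
        intro v hv
        obtain ⟨p⟩ := hT.1 r v
        have hsub : ∀ {a b} (w : T.Walk a b), (a = r ∨ T.Adj r a) → (b = r ∨ T.Adj r b) := by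
          intro a b w
          induction w with
          | nil => exact id
          | @cons a c b hac w ihw =>
            intro ha
            apply ihw
            rcases ha with rfl | ha
            · exact Or.inr hac
            · exact Or.inl (hx a c ha hac)
        exact (hsub p (Or.inl rfl)).resolve_left hv
      have heq : T = star r := by
        ext a b
        simp only [star, fromRel_adj]
        constructor
        · intro hab
          refine ⟨hab.ne, ?_⟩
          by_cases ha : a = r
          · exact Or.inl ha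
          · exact Or.inr (hx a b (hr a ha) hab)
        · rintro ⟨hne, rfl | rfl⟩
          · exact hr b (Ne.symm hne)
          · exact (hr a hne).symm
      subst heq
      exact ⟨hT, ReflTransGen.refl⟩

theorem reach_canonical (r : Fin n) (h : (star r).IsTree) (m : Fin k → Fin n) :
    ReflTransGen ConicAdj (⟨n, star r, h, m⟩ : MarkedTree k) ⟨n, star r, h, fun _ => r⟩ := by
  classical
  induction hd : (Finset.univ.filter fun i => m i ≠ r).card using Nat.strong_induction_on generalizing m with
  | _ d ih =>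
    by_cases hm : ∀ i, m i = r
    · rw [show m = fun _ => r from funext hm]
    · push Not at hm
      obtain ⟨i, hi⟩ := hm
      let m' : Fin k → Fin n := fun j => if m j = m i then r else m j
      have hlt : (Finset.univ.filter fun j => m' j ≠ r).card < d := by
        rw [← hd]
        refine Finset.card_lt_card (Finset.ssubset_iff_of_subset ?_ |>.mpr ⟨i, by simp [hi], by simp [m']⟩)
        intro j
        simp only [Finset.mem_filter, Finset.mem_univ, true_and, m']
        split
        · exact fun h => absurd rfl h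
        · exact id
      refine ReflTransGen.head ?_ (ih _ hlt m' rfl)
      have hadj : (star r).Adj r (m i) := ⟨Ne.symm hi, Or.inl rfl⟩
      refine ⟨r, m i, r, m i, hadj, hadj, RelIso.refl _, rfl, fun j => ?_⟩
      simp only [RelIso.refl_apply, contractMark, m']
      by_cases hj : m j = m i
      · simp [hj, Ne.symm hi]
      · simp [hj]

theorem reflTransGen_conicAdj (T₁ T₂ : MarkedTree k) (h : T₁.n = T₂.n) :
    ReflTransGen ConicAdj T₁ T₂ := by
  obtain ⟨n, G₁, h₁, m₁⟩ := T₁
  obtain ⟨n', G₂, h₂, m₂⟩ := T₂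
  simp only at h
  subst h
  obtain ⟨r⟩ := h₁.1.nonempty
  obtain ⟨hs, p₁⟩ := reach_star r G₁ h₁ m₁
  obtain ⟨_, p₂⟩ := reach_star r G₂ h₂ m₂
  have : Std.Symm (ConicAdj (k := k)) := ⟨fun _ _ => conicAdj_symm⟩
  exact (p₁.trans (reach_canonical r hs m₁)).trans
    (symm_of (ReflTransGen ConicAdj) (p₂.trans (reach_canonical r _ m₂)))

end GrothLib.ConicTree
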